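import Mathlib.RingTheory.Unramified.LocalStructure
import Mathlib.RingTheory.Unramified.Finite
import Mathlib.RingTheory.Etale.StandardEtale
import Mathlib.RingTheory.Idempotents
import Mathlib.RingTheory.TensorProduct.Pi
import Mathlib.LinearAlgebra.Dimension.Constructions
import Mathlib.RingTheory.Flat.Basic

/-! Etale-local splitting of an unramified algebra over a prime of the base. -/

set_option autoImplicit false
universe u

namespace Groth.Agent.EtLocStr

open TensorProduct

theorem exists_split (R : Type u) [CommRing R] (S : Type u) [CommRing S] [Algebra R S]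
    [Algebra.FiniteType R S] (q : Ideal S) [q.IsPrime] [Algebra.IsUnramifiedAt R q] :
    ∃ (R' : Type u) (_ : CommRing R') (_ : Algebra R R') (_ : Algebra.Etale R R') (p' : Ideal R')
      (_ : p'.IsPrime) (_ : p'.LiesOver (q.under R)) (A : Type u) (_ : CommRing A) (_ : Algebra R' A)
      (B : Type u) (_ : CommRing B) (_ : Algebra R' B) (e : (R' ⊗[R] S) ≃ₐ[R'] (A × B)),
      Function.Surjective (algebraMap R' A) ∧ (p'.map (algebraMap R' A)).IsPrime ∧
        (p'.map (algebraMap R' A)).comap (algebraMap R' A) = p' ∧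
        (p'.map (algebraMap R' A)).comap (((RingHom.fst A B).comp e.toRingHom).comp
          (Algebra.TensorProduct.includeRight : S →ₐ[R] R' ⊗[R] S).toRingHom) = q := by
  obtain ⟨r, hr, P, φ, hφ⟩ :=
    Algebra.IsUnramifiedAt.exists_hasStandardEtaleSurjectionOn (R := R) q
  let C := P.Ring ⊗[R] S
  let S' := Localization.Away r
  let ψ : C →ₐ[R] S' := Algebra.TensorProduct.lift φ (IsScalarTower.toAlgHom R S S')
    fun _ _ => .all _ _
  have hψl : ∀ a : P.Ring, ψ (a ⊗ₜ 1) = φ a := fun a =>
    ((Algebra.TensorProduct.lift_tmul φ (IsScalarTower.toAlgHom R S S') (fun _ _ => .all _ _) a 1).trans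
      (by rw [map_one, mul_one]))
  have hψr : ∀ b : S, ψ (1 ⊗ₜ b) = algebraMap S S' b := fun b =>
    ((Algebra.TensorProduct.lift_tmul φ (IsScalarTower.toAlgHom R S S') (fun _ _ => .all _ _) 1 b).trans
      (by rw [map_one, one_mul, IsScalarTower.toAlgHom_apply]))
  obtain ⟨c₀, hc₀, hker⟩ : ∃ c₀, IsIdempotentElem c₀ ∧
      RingHom.ker ψ.toRingHom = Ideal.span {c₀} := by
    letI : Algebra S C := Algebra.TensorProduct.rightAlgebra
    let ψS : C →ₐ[S] S' := { ψ.toRingHom with commutes' := hψr }
    letI : Algebra C S' := ψS.toAlgebra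
    haveI : IsScalarTower S C S' := .of_algebraMap_eq' ψS.comp_algebraMap.symm
    haveI : Algebra.Etale S C :=
      Algebra.Etale.of_equiv
        ({ Algebra.TensorProduct.comm R S P.Ring with commutes' := fun s => rfl } :
          S ⊗[R] P.Ring ≃ₐ[S] C)
    haveI : Algebra.Etale S S' := Algebra.Etale.of_isLocalizationAway r
    have hsurj : Function.Surjective ψS := fun z => by
      obtain ⟨a, rfl⟩ := hφ z
      exact ⟨a ⊗ₜ 1, hψl a⟩
    exact (Ideal.isIdempotentElem_iff_of_fg _
      (Algebra.FinitePresentation.ker_fG_of_surjective ψS hsurj)).mp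
      ((Algebra.FormallyEtale.iff_of_surjective hsurj).mp (.of_restrictScalars (R := S)))
  let A := C ⧸ Ideal.span {c₀}
  let θ : A →+* S' := Ideal.Quotient.lift _ ψ.toRingHom fun c hc => by rwa [← hker] at hc
  have hθ : ∀ a : P.Ring, θ (algebraMap P.Ring A a) = φ a := hψl
  have hsA : Function.Surjective (algebraMap P.Ring A) := by
    intro c
    obtain ⟨c, rfl⟩ := Ideal.Quotient.mk_surjective c
    obtain ⟨a, ha⟩ := hφ (ψ c)
    refine ⟨a, (Ideal.Quotient.mk_eq_mk_iff_sub_mem _ _).2 ?_⟩
    rw [← hker, RingHom.mem_ker, map_sub, sub_eq_zero]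
    exact (hψl a).trans ha
  let Q : Ideal S' := q.map (algebraMap S S')
  have hd : Disjoint (Submonoid.powers r : Set S) q :=
    (Ideal.disjoint_powers_iff_notMem_of_isPrime _).mpr hr
  haveI hQ : Q.IsPrime := IsLocalization.isPrime_of_isPrime_disjoint (.powers r) _ _ ‹_› hd
  have hQq : Q.comap (algebraMap S S') = q :=
    IsLocalization.comap_map_of_isPrime_disjoint (.powers r) _ ‹_› hd
  let p' : Ideal P.Ring := Q.comap φ.toRingHom
  have hmap : p'.map (algebraMap P.Ring A) = Q.comap θ := by
    refine le_antisymm (Ideal.map_le_iff_le_comap.2 fun a ha => ?_) fun z hz => ?_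
    · show θ (algebraMap P.Ring A a) ∈ Q
      rw [hθ]; exact ha
    · obtain ⟨a, rfl⟩ := hsA z
      refine Ideal.mem_map_of_mem _ ?_
      show φ a ∈ Q
      rw [← hθ]; exact hz
  refine ⟨P.Ring, inferInstance, inferInstance, inferInstance, p', inferInstance, ⟨?_⟩, A,
    inferInstance, inferInstance, C ⧸ Ideal.span {1 - c₀}, inferInstance, inferInstance,
    AlgEquiv.prodQuotientOfIsIdempotentElem P.Ring hc₀ hc₀.one_sub (add_sub_cancel _ _)
      hc₀.mul_one_sub_self, hsA, ?_, ?_, ?_⟩
  · ext a
    show algebraMap R S a ∈ q ↔ φ (algebraMap R P.Ring a) ∈ Q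
    rw [φ.commutes, IsScalarTower.algebraMap_apply R S S']
    exact (Ideal.ext_iff.1 hQq _).symm
  · rw [hmap]; infer_instance
  · rw [hmap]
    ext a
    show θ (algebraMap P.Ring A a) ∈ Q ↔ φ a ∈ Q
    rw [hθ]
  · rw [hmap]
    ext b
    show ψ (1 ⊗ₜ b) ∈ Q ↔ b ∈ q
    rw [hψr, ← Ideal.mem_comap, hQq]

/-- A prime over `p` gives a point of the fibre. -/
theorem nontrivial_fiber {R S : Type u} [CommRing R] [CommRing S] [Algebra R S] (p : Ideal R)
    [p.IsPrime] (q : Ideal S) [q.IsPrime] (h : q.comap (algebraMap R S) = p) :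
    Nontrivial (p.ResidueField ⊗[R] S) := by
  haveI : q.LiesOver p := ⟨h.symm⟩
  exact (Algebra.TensorProduct.lift (Ideal.ResidueField.mapₐ p q (Algebra.ofId R S) h.symm)
    (IsScalarTower.toAlgHom R S q.ResidueField) fun _ _ => .all _ _).toRingHom.domain_nontrivial

theorem finite_fiber {R S : Type u} [CommRing R] [CommRing S] [Algebra R S] (p : Ideal R)
    [p.IsPrime] [Algebra.Unramified R S] : Module.Finite p.ResidueField (p.ResidueField ⊗[R] S) :=
  Algebra.FormallyUnramified.finite_of_free _ _

/-- Adding one factor to a finite product. -/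
theorem exists_cons {R : Type u} [CommRing R] (p : Ideal R) (T : Type u) [CommRing T] [Algebra R T]
    {n : ℕ} (A0 : Type u) [i0 : CommRing A0] [a0 : Algebra R A0] (Ai : Fin n → Type u)
    [ii : ∀ i, CommRing (Ai i)] [ai : ∀ i, Algebra R (Ai i)] (B : Type u) [CommRing B] [Algebra R B]
    (e : T ≃ₐ[R] A0 × ((∀ i, Ai i) × B))
    (h0 : Function.Surjective (algebraMap R A0) ∧ (p.map (algebraMap R A0)).IsPrime ∧
      (p.map (algebraMap R A0)).comap (algebraMap R A0) = p)
    (hi : ∀ i, Function.Surjective (algebraMap R (Ai i)) ∧ (p.map (algebraMap R (Ai i))).IsPrime ∧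
      (p.map (algebraMap R (Ai i))).comap (algebraMap R (Ai i)) = p) :
    ∃ (m : ℕ) (F : Fin m → Type u) (_ : ∀ i, CommRing (F i)) (_ : ∀ i, Algebra R (F i)),
      Nonempty (T ≃ₐ[R] (∀ i, F i) × B) ∧
        ∀ i, Function.Surjective (algebraMap R (F i)) ∧ (p.map (algebraMap R (F i))).IsPrime ∧
          (p.map (algebraMap R (F i))).comap (algebraMap R (F i)) = p := by
  refine ⟨n + 1, fun i => Fin.cases (motive := fun _ => Type u) A0 Ai i, fun i => Fin.cases (motive := fun i =>
      CommRing (Fin.cases (motive := fun _ => Type u) A0 Ai i : Type u)) i0 ii i, ?_⟩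
  letI : ∀ i : Fin (n + 1), CommRing (Fin.cases (motive := fun _ => Type u) A0 Ai i : Type u) := fun i =>
    Fin.cases (motive := fun i => CommRing (Fin.cases (motive := fun _ => Type u) A0 Ai i : Type u)) i0 ii i
  refine ⟨fun i => Fin.cases (motive := fun i => Algebra R (Fin.cases (motive := fun _ => Type u) A0 Ai i : Type u)) a0 ai i, ?_⟩
  letI : ∀ i : Fin (n + 1), Algebra R (Fin.cases (motive := fun _ => Type u) A0 Ai i : Type u) := fun i =>
    Fin.cases (motive := fun i => Algebra R (Fin.cases (motive := fun _ => Type u) A0 Ai i : Type u)) a0 ai i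
  refine ⟨⟨e.trans
    { toFun := fun x => (fun i => Fin.cases (motive := fun i => (Fin.cases (motive := fun _ => Type u) A0 Ai i : Type u))
        x.1 x.2.1 i, x.2.2)
      invFun := fun x => (x.1 0, fun i => x.1 i.succ, x.2)
      left_inv := fun _ => rfl
      right_inv := fun x => Prod.ext (funext (Fin.cases rfl fun _ => rfl)) rfl
      map_mul' := fun _ _ => Prod.ext (funext (Fin.cases rfl fun _ => rfl)) rfl
      map_add' := fun _ _ => Prod.ext (funext (Fin.cases rfl fun _ => rfl)) rfl
      commutes' := fun _ => Prod.ext (funext (Fin.cases rfl fun _ => rfl)) rfl }⟩,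
    Fin.cases h0 hi⟩

theorem exists_split_all (N : ℕ) (R : Type u) [CommRing R] (S : Type u) [CommRing S] [Algebra R S]
    [Algebra.Unramified R S] (p : Ideal R) [p.IsPrime]
    (hN : Module.finrank p.ResidueField (p.ResidueField ⊗[R] S) ≤ N) :
    ∃ (R' : Type u) (_ : CommRing R') (_ : Algebra R R') (_ : Algebra.Etale R R') (p' : Ideal R')
      (_ : p'.IsPrime) (_ : p'.LiesOver p) (n : ℕ) (A : Fin n → Type u) (_ : ∀ i, CommRing (A i))
      (_ : ∀ i, Algebra R' (A i)) (B : Type u) (_ : CommRing B) (_ : Algebra R' B),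
      Nonempty ((R' ⊗[R] S) ≃ₐ[R'] ((∀ i, A i) × B)) ∧
        (∀ i, Function.Surjective (algebraMap R' (A i)) ∧
          (p'.map (algebraMap R' (A i))).IsPrime ∧
          (p'.map (algebraMap R' (A i))).comap (algebraMap R' (A i)) = p') ∧
        ∀ (q : Ideal B) [q.IsPrime], q.comap (algebraMap R' B) ≠ p' := by
  induction N using Nat.strong_induction_on generalizing R S with
  | _ N IH =>
  by_cases hq : ∃ (q : Ideal S), q.IsPrime ∧ q.comap (algebraMap R S) = p
  swap
  · let T := R ⊗[R] S
    let e : T ≃ₐ[R] (∀ _ : Fin 0, R) × T :=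
      { toFun := fun x => (finZeroElim, x)
        invFun := fun x => x.2
        left_inv := fun _ => rfl
        right_inv := fun x => Prod.ext (funext finZeroElim) rfl
        map_mul' := fun _ _ => Prod.ext (funext finZeroElim) rfl
        map_add' := fun _ _ => Prod.ext (funext finZeroElim) rfl
        commutes' := fun _ => Prod.ext (funext finZeroElim) rfl }
    refine ⟨R, inferInstance, Algebra.id R, inferInstance, p, ‹_›, ⟨rfl⟩, 0, fun _ => R,
      fun _ => inferInstance, fun _ => Algebra.id R, T, inferInstance, inferInstance, ⟨e⟩,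
      finZeroElim, fun q _ h => hq ⟨q.comap (Algebra.TensorProduct.lid R S).symm.toAlgHom.toRingHom,
        inferInstance, ?_⟩⟩
    refine (Ideal.comap_comap _ _).trans (Eq.trans ?_ h)
    exact congrArg (fun f => Ideal.comap f q)
      (Algebra.TensorProduct.lid R S).symm.toAlgHom.comp_algebraMap
  obtain ⟨q, hqp, hqR⟩ := hq
  obtain ⟨R', _, _, _, p', _, hl, A, _, _, B, _, _, e, hA, hAp, hAc, -⟩ := exists_split R S q
  haveI : p'.LiesOver p := ⟨hqR.symm.trans hl.over⟩
  haveI : Algebra.Unramified R' (A × B) := Algebra.Unramified.of_equiv e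
  haveI : Algebra.Unramified R' B :=
    { formallyUnramified := Algebra.FormallyUnramified.of_surjective (AlgHom.snd R' A B)
        Prod.snd_surjective
      finiteType := Algebra.FiniteType.of_surjective (AlgHom.snd R' A B) Prod.snd_surjective }
  haveI : Algebra.Unramified R' A :=
    { formallyUnramified := Algebra.FormallyUnramified.of_surjective (AlgHom.fst R' A B)
        Prod.fst_surjective
      finiteType := Algebra.FiniteType.of_surjective (AlgHom.fst R' A B) Prod.fst_surjective }
  have hdim : Module.finrank p'.ResidueField (p'.ResidueField ⊗[R'] B) <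
      Module.finrank p.ResidueField (p.ResidueField ⊗[R] S) := by
    letI : Algebra p.ResidueField p'.ResidueField :=
      (Ideal.ResidueField.mapₐ p p' (Algebra.ofId R R') (p'.over_def p)).toAlgebra
    haveI : IsScalarTower R p.ResidueField p'.ResidueField := .of_algebraMap_eq fun x =>
      ((Ideal.ResidueField.mapₐ p p' (Algebra.ofId R R') (p'.over_def p)).commutes x).symm
    haveI := finite_fiber (S := A) p'
    haveI := finite_fiber (S := B) p'
    haveI : Nontrivial (p'.ResidueField ⊗[R'] A) := nontrivial_fiber p' _ hAc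
    let E : p'.ResidueField ⊗[p.ResidueField] (p.ResidueField ⊗[R] S) ≃ₗ[p'.ResidueField] (p'.ResidueField ⊗[R'] A) × (p'.ResidueField ⊗[R'] B) :=
      TensorProduct.AlgebraTensorModule.cancelBaseChange R p.ResidueField
        p'.ResidueField p'.ResidueField S ≪≫ₗ
        (TensorProduct.AlgebraTensorModule.cancelBaseChange R R' p'.ResidueField p'.ResidueField S).symm ≪≫ₗ
        TensorProduct.AlgebraTensorModule.congr (LinearEquiv.refl p'.ResidueField p'.ResidueField) e.toLinearEquiv ≪≫ₗ
        TensorProduct.prodRight R' p'.ResidueField p'.ResidueField A B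
    have h1 := E.finrank_eq
    rw [Module.finrank_baseChange, Module.finrank_prod] at h1
    have h2 : 0 < Module.finrank p'.ResidueField (p'.ResidueField ⊗[R'] A) := Module.finrank_pos
    omega
  obtain ⟨R'', _, _, _, p'', _, _, n, Ai, _, _, B', _, _, ⟨eB⟩, hAi, hB⟩ :=
    IH _ (hdim.trans_le hN) R' B p' le_rfl
  letI : Algebra R R'' := Algebra.compHom R'' (algebraMap R R')
  haveI : IsScalarTower R R' R'' := .of_algebraMap_eq fun _ => rfl
  haveI : Algebra.Etale R R'' := Algebra.Etale.comp R R' R''
  haveI : p''.LiesOver p := Ideal.LiesOver.trans p'' p' p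
  let e1 : R'' ⊗[R] S ≃ₐ[R''] (R'' ⊗[R'] A) × ((∀ i, Ai i) × B') :=
    (Algebra.TensorProduct.cancelBaseChange R R' R'' R'' S).symm.trans <|
      (Algebra.TensorProduct.congr AlgEquiv.refl e).trans <|
        (Algebra.TensorProduct.prodRight R' R'' R'' A B).trans <|
          AlgEquiv.prodCongr AlgEquiv.refl eB
  have hA0 : Function.Surjective (algebraMap R'' (R'' ⊗[R'] A)) ∧
      (p''.map (algebraMap R'' (R'' ⊗[R'] A))).IsPrime ∧
      (p''.map (algebraMap R'' (R'' ⊗[R'] A))).comap (algebraMap R'' (R'' ⊗[R'] A)) = p'' := by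
    -- the new factor `R'' ⊗ A`
    let π := algebraMap R'' (R'' ⊗[R'] A)
    have hπ : Function.Surjective π := fun z => by
      induction z using TensorProduct.induction_on with
      | zero => exact ⟨0, map_zero _⟩
      | tmul a b =>
        obtain ⟨c, rfl⟩ := hA b
        refine ⟨c • a, ?_⟩
        show (c • a) ⊗ₜ[R'] (1 : A) = a ⊗ₜ algebraMap R' A c
        rw [TensorProduct.smul_tmul, Algebra.smul_def, mul_one]
      | add x y hx hy =>
        obtain ⟨a, rfl⟩ := hx
        obtain ⟨b, rfl⟩ := hy
        exact ⟨a + b, map_add _ _ _⟩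
    have hkA : RingHom.ker (algebraMap R' A) ≤
        RingHom.ker (algebraMap R' p''.ResidueField) := fun x hx => by
      have hx' : x ∈ p' := by
        rw [← hAc, Ideal.mem_comap, RingHom.mem_ker.1 hx]; exact zero_mem _
      rw [RingHom.mem_ker, IsScalarTower.algebraMap_apply R' R'' p''.ResidueField,
        Ideal.algebraMap_residueField_eq_zero]
      exact (Ideal.mem_of_liesOver p'' p' x).1 hx'
    let g : A →+* p''.ResidueField :=
      RingHom.liftOfSurjective (algebraMap R' A) hA ⟨algebraMap R' p''.ResidueField, hkA⟩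
    let ω : R'' ⊗[R'] A →ₐ[R''] p''.ResidueField :=
      Algebra.TensorProduct.lift (Algebra.ofId R'' _)
        ({ g with
            commutes' := fun x => RingHom.liftOfSurjective_comp_apply (algebraMap R' A) hA
              ⟨algebraMap R' p''.ResidueField, hkA⟩ x } : A →ₐ[R'] p''.ResidueField)
        fun _ _ => .all _ _
    have hker : RingHom.ker π ≤ p'' := fun x hx => by
      have h := ω.commutes x
      rw [show algebraMap R'' (R'' ⊗[R'] A) x = 0 from hx, map_zero] at h
      exact Ideal.algebraMap_residueField_eq_zero.1 h.symm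
    refine ⟨hπ, Ideal.map_isPrime_of_surjective hπ hker, ?_⟩
    show (p''.map π).comap π = p''
    rw [Ideal.comap_map_of_surjective π hπ, sup_eq_left, ← RingHom.ker_eq_comap_bot]
    exact hker
  obtain ⟨m, F, iR, iA, he, hF⟩ := exists_cons p'' (R'' ⊗[R] S) (R'' ⊗[R'] A) Ai B' e1 hA0 hAi
  exact ⟨R'', inferInstance, inferInstance, inferInstance, p'', ‹_›, ‹_›, m, F, iR, iA, B',
    inferInstance, inferInstance, he, hF, hB⟩

end Groth.Agent.EtLocStr
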