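import Groth.Agent.FlatPtDesc.Graph
import Groth.Agent.MorLib.UnramLocus
import Mathlib.AlgebraicGeometry.Morphisms.Etale
import Mathlib.AlgebraicGeometry.Morphisms.ClosedImmersion
import Mathlib.RingTheory.Unramified.LocalStructure

/-! An unramified morphism is, etale locally on the target, a closed immersion. -/

set_option autoImplicit false
universe u

namespace Groth.Agent.EtLocStr

open AlgebraicGeometry CategoryTheory Limits

variable {X Y : Scheme.{u}}

theorem exists_etale_closedImmersion (f : X ⟶ Y) [LocallyOfFiniteType f] [FormallyUnramified f]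
    (x : X) :
    ∃ (E : Scheme.{u}) (g : E ⟶ Y) (U : (pullback f g).Opens), Etale g ∧
      x ∈ (pullback.fst f g).base '' (U : Set ↥(pullback f g)) ∧
      IsClosedImmersion (U.ι ≫ pullback.snd f g) := by
  obtain ⟨U, hU, hxU, -⟩ := exists_isAffineOpen_mem_and_subset (x := f x) (U := ⊤) trivial
  obtain ⟨V, hV, hxV, hVU'⟩ := exists_isAffineOpen_mem_and_subset (x := x) (U := f ⁻¹ᵁ U) hxU
  have hVU : V ≤ f ⁻¹ᵁ U := hVU'
  have hFT := f.finiteType_appLE hU hV hVU
  have hFU : (f.appLE U V hVU).hom.FormallyUnramified :=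
    HasRingHomProperty.appLE @FormallyUnramified f ‹_› ⟨U, hU⟩ ⟨V, hV⟩ hVU
  algebraize [(f.appLE U V hVU).hom]
  let q := hV.primeIdealOf ⟨x, hxV⟩
  haveI : Algebra.IsUnramifiedAt Γ(Y, U) q.asIdeal :=
    Algebra.FormallyUnramified.comp _ Γ(X, V) _
  obtain ⟨r, hr, P, φ, hφ⟩ :=
    Algebra.IsUnramifiedAt.exists_hasStandardEtaleSurjectionOn (R := Γ(Y, U)) q.asIdeal
  let Z : Scheme.{u} := Spec (.of (Localization.Away r))
  let g : Spec (.of P.Ring) ⟶ Y :=
    Spec.map (CommRingCat.ofHom (algebraMap Γ(Y, U) P.Ring)) ≫ hU.fromSpec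
  haveI : Etale g := by
    haveI : Etale (Spec.map (CommRingCat.ofHom (algebraMap Γ(Y, U) P.Ring))) := by
      rw [HasRingHomProperty.Spec_iff (P := @Etale)]
      exact RingHom.etale_algebraMap.2 inferInstance
    infer_instance
  let i : Z ⟶ Spec (.of P.Ring) := Spec.map (CommRingCat.ofHom φ.toRingHom)
  haveI : IsClosedImmersion i := IsClosedImmersion.spec_of_surjective _ hφ
  let c : Z ⟶ Spec Γ(X, V) :=
    Spec.map (CommRingCat.ofHom (algebraMap Γ(X, V) (Localization.Away r)))
  haveI : IsOpenImmersion c := IsOpenImmersion.of_isLocalization r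
  let j : Z ⟶ X := c ≫ hV.fromSpec
  have hji : j ≫ f = i ≫ g := by
    have e : CommRingCat.ofHom (algebraMap Γ(Y, U) P.Ring) ≫ CommRingCat.ofHom φ.toRingHom =
        f.appLE U V hVU ≫ CommRingCat.ofHom (algebraMap Γ(X, V) (Localization.Away r)) := by
      ext a
      exact (φ.commutes a).trans (IsScalarTower.algebraMap_apply Γ(Y, U) Γ(X, V) _ a)
    simp only [j, c, i, g, Category.assoc]
    rw [← hU.SpecMap_appLE_fromSpec f hV hVU, ← Spec.map_comp_assoc, ← Spec.map_comp_assoc, e]
  let s : Z ⟶ pullback f g := pullback.lift j i hji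
  haveI : IsOpenImmersion (s ≫ pullback.fst f g) := by rw [pullback.lift_fst]; infer_instance
  haveI : Etale (pullback.fst f g) :=
    MorphismProperty.of_isPullback (P := @Etale.{u}) (IsPullback.of_hasPullback f g).flip ‹Etale g›
  haveI : IsOpenImmersion s := FlatPtDesc.isOpenImmersion_of_comp s (pullback.fst f g)
  refine ⟨_, g, s.opensRange, inferInstance, ?_, ?_⟩
  · obtain ⟨z, hz⟩ : q ∈ Set.range c := by
      show q ∈ Set.range (PrimeSpectrum.comap (algebraMap Γ(X, V) (Localization.Away r)))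
      rw [PrimeSpectrum.localization_away_comap_range _ r]
      exact hr
    refine ⟨s z, ⟨z, rfl⟩, ?_⟩
    show pullback.fst f g (s z) = x
    rw [← Scheme.Hom.comp_apply, pullback.lift_fst, Scheme.Hom.comp_apply, hz,
      hV.fromSpec_primeIdealOf]
  · rw [← Scheme.Hom.isoOpensRange_inv_comp s, Category.assoc, pullback.lift_snd]
    infer_instance

end Groth.Agent.EtLocStr
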